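import Cfsg.Agent.H529.S8.Mult
import Cfsg.Agent.H690.Spor.RankThree

/-!
# Linear characters of central extensions of groups with trivial multiplier (helper265, for S4908)
-/

set_option autoImplicit false

namespace Cfsg.Agent.H265.S8.FiLin

open Cfsg Subgroup Cfsg.Agent.H690.Spor.RankThree
open scoped commutatorElement

/-- rank 3 along a surjection -/
theorem r3_comp {M G X : Type*} [Group M] [Group G] [MulAction G X] (f : M →* G) (hf : Function.Surjective f)
    {R : X → X → Prop} {k l : ℕ} (h : R3 G X R k l) : @R3 M X _ (MulAction.compHom X f) R k l := by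
  let _ := MulAction.compHom X f
  exact {
    trans := ⟨fun x y => by
      obtain ⟨g, hg⟩ := h.trans.exists_smul_eq x y
      obtain ⟨m, rfl⟩ := hf g
      exact ⟨m, hg⟩⟩
    symm := h.symm
    irr := h.irr
    inv := fun g x y hxy => h.inv (f g) x y hxy
    one := fun x y x' y' h1 h2 => by
      obtain ⟨g, hg1, hg2⟩ := h.one x y x' y' h1 h2
      obtain ⟨m, rfl⟩ := hf g
      exact ⟨m, hg1, hg2⟩
    two := fun x y x' y' h1 h2 h3 h4 => by
      obtain ⟨g, hg1, hg2⟩ := h.two x y x' y' h1 h2 h3 h4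
      obtain ⟨m, rfl⟩ := hf g
      exact ⟨m, hg1, hg2⟩
    cardk := h.cardk
    k0 := h.k0
    l0 := h.l0
    cardn := h.cardn }

/-- a central element of the kernel is not in the derived subgroup -/
theorem not_mem_comm {H K : Type} [Group H] [Finite H] [Group K] (ρ : H →* K) (hs : Function.Surjective ρ)
    (hc : ρ.ker ≤ center H) (hK : commutator K = ⊤) (hM : H529.S8.MultDvd.{0} 1 K) {z : H} (hz : ρ z = 1)
    (hz1 : z ≠ 1) : z ∉ commutator H := by
  intro hzc
  set N := commutator H with hN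
  let σ : N →* K := ρ.comp N.subtype
  have hmap : N.map ρ = ⊤ := by
    rw [hN, commutator_def, map_commutator, ← MonoidHom.range_eq_map, MonoidHom.range_eq_top.2 hs, ← commutator_def, hK]
  have hσ : Function.Surjective σ := by
    intro k
    have h1 : k ∈ N.map ρ := by rw [hmap]; exact mem_top k
    obtain ⟨n, hn, rfl⟩ := h1
    exact ⟨⟨n, hn⟩, rfl⟩
  -- every element is central times an element of `N`
  have hdec : ∀ h : H, ∃ n : N, ∃ c ∈ center H, h = n * c := by
    intro h
    obtain ⟨n, hn⟩ := hσ (ρ h)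
    refine ⟨n, (n : H)⁻¹ * h, hc ?_, by group⟩
    rw [MonoidHom.mem_ker, map_mul, map_inv]
    have : ρ (n : H) = ρ h := hn
    rw [this, inv_mul_cancel]
  have hperf : commutator N = ⊤ := by
    have h1 : (⁅(⊤ : Subgroup H), (⊤ : Subgroup H)⁆ : Subgroup H) ≤ (commutator N).map N.subtype := by
      rw [Subgroup.commutator_le]
      intro a _ b _
      obtain ⟨n, c, hc1, rfl⟩ := hdec a
      obtain ⟨n', c', hc1', rfl⟩ := hdec b
      have e : ⁅(n : H) * c, (n' : H) * c'⁆ = ⁅(n : H), (n' : H)⁆ := by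
        have f1 := fun y => mem_center_iff.1 hc1 y
        have f2 := fun y => mem_center_iff.1 hc1' y
        have f1' := fun y => mem_center_iff.1 (inv_mem hc1) y
        have f2' := fun y => mem_center_iff.1 (inv_mem hc1') y
        rw [commutatorElement_def, commutatorElement_def, mul_inv_rev, mul_inv_rev]
        calc (n : H) * c * (n' * c') * (c⁻¹ * (n : H)⁻¹) * (c'⁻¹ * (n' : H)⁻¹) =
              n * c * n' * c' * c⁻¹ * (n : H)⁻¹ * c'⁻¹ * (n' : H)⁻¹ := by group
          _ = n * (c * n' * c' * c⁻¹) * (n : H)⁻¹ * c'⁻¹ * (n' : H)⁻¹ := by group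
          _ = n * (n' * c') * (n : H)⁻¹ * c'⁻¹ * (n' : H)⁻¹ := by
            rw [show c * (n' : H) * c' * c⁻¹ = c * (n' * c') * c⁻¹ by group, ← f1 ((n' : H) * c'), mul_inv_cancel_right]
          _ = n * n' * (c' * (n : H)⁻¹ * c'⁻¹) * (n' : H)⁻¹ := by group
          _ = n * n' * (n : H)⁻¹ * (n' : H)⁻¹ := by
            rw [← f2 (n : H)⁻¹, mul_inv_cancel_right]
      rw [e]
      refine ⟨⁅n, n'⁆, commutator_mem_commutator (mem_top _) (mem_top _), ?_⟩
      rfl
    rw [eq_top_iff]
    intro n _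
    obtain ⟨n', hn', he⟩ := h1 n.2
    have : n' = n := Subtype.ext he
    rwa [← this]
  have hV : σ.ker ≤ center N := by
    intro n hn
    rw [mem_center_iff]
    intro m
    exact Subtype.ext (mem_center_iff.1 (hc (show (n : H) ∈ ρ.ker from hn)) (m : H))
  have h1 := hM σ.ker hV hperf ⟨QuotientGroup.quotientKerEquivOfSurjective σ hσ⟩
  rw [Nat.dvd_one, Subgroup.card_eq_one] at h1
  have h2 : (⟨z, hzc⟩ : N) ∈ σ.ker := hz
  rw [h1, mem_bot] at h2
  exact hz1 (congrArg Subtype.val h2)

/-- **a linear character which is not trivial on the kernel** -/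
theorem exists_lin {H K : Type} [Group H] [Finite H] [Group K] (ρ : H →* K) (hs : Function.Surjective ρ)
    (hc : ρ.ker ≤ center H) (hK : commutator K = ⊤) (hM : H529.S8.MultDvd.{0} 1 K) {z : H} (hz : ρ z = 1)
    (hz1 : z ≠ 1) : ∃ μ : H →* ℂˣ, μ z ≠ 1 := by
  have h1 := not_mem_comm ρ hs hc hK hM hz hz1
  have hne : (Abelianization.of z : Abelianization H) ≠ 1 := by
    intro h
    apply h1
    rw [← Abelianization.ker_of]
    exact h
  obtain ⟨lam, hlam⟩ := CommGroup.exists_apply_ne_one_of_hasEnoughRootsOfUnity (Abelianization H) ℂ hne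
  exact ⟨lam.comp Abelianization.of, hlam⟩

end Cfsg.Agent.H265.S8.FiLin
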