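import Cfsg.Agent.H265.S8.JDeg
import Cfsg.Agent.H786.S8.Solv
import Cfsg.Agent.H492.IMJ4
import Cfsg.Agent.H894.J4Two
import Cfsg.Agent.H704.S8.Defs3

/-!
# S4908, `J₄`: SOLV (helper265, with helper786's criterion)

`solv` : no solvable group has the degrees of `J₄`.
-/

set_option autoImplicit false
set_option maxRecDepth 100000

open Cfsg Subgroup

namespace Cfsg.Agent.H265.S8

universe u v

attribute [local instance] H877.IMJ4.finJ4

/-- The certificate: for each degree the characters with which it is incompatible. -/
def CS : List (ℕ × List ℕ) := TD.tail.map fun f =>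
  (f, bif Nat.beq f 1776888 then [1981808640] else bif Nat.beq f 1981808640 then [1776888] else [1776888, 1981808640])

theorem CS_fst : 1 :: CS.map (·.1) = TD := by decide +kernel

theorem chk_CS : H245.AN.chkB (1 :: CS.map (·.1)) [2, 3, 5, 7, 11, 23, 29, 31, 37, 43] [1776888, 1981808640] CS = true := by
  decide +kernel

theorem mem1 : 1776888 ∈ charDegrees Spor.J4 := by
  obtain ⟨χ, hχ⟩ := H492.IMJ4.exists_1776888
  exact ⟨χ, by rw [H670.PSing.charDegree_eq_of hχ]⟩

theorem mem2 : 1981808640 ∈ charDegrees Spor.J4 := H894.J4Two.exists_degree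

theorem prime_mem {p d : ℕ} (hp : p.Prime) (hd : d ∈ charDegrees Spor.J4) (hpd : p ∣ d) :
    p ∈ [2, 3, 5, 7, 11, 23, 29, 31, 37, 43] := by
  obtain ⟨χ, rfl⟩ := hd
  have h1 := hpd.trans (Blocks.Knorr.charDegree_dvd χ.2)
  rw [H735.J4C.hN, show 86775571046077562880 = 2 ^ 21 * 3 ^ 3 * 5 * 7 * 11 ^ 3 * 23 * 29 * 31 * 37 * 43 by norm_num] at h1
  have two : ∀ {q : ℕ}, q.Prime → ∀ n : ℕ, p ∣ q ^ n → p = q := fun hq n h =>
    (Nat.prime_dvd_prime_iff_eq hp hq).1 (hp.dvd_of_dvd_pow h)
  have one : ∀ {q : ℕ}, q.Prime → p ∣ q → p = q := fun hq h => (Nat.prime_dvd_prime_iff_eq hp hq).1 h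
  simp only [List.mem_cons, List.not_mem_nil, or_false]
  rcases (Nat.Prime.dvd_mul hp).1 h1 with h1 | h
  · rcases (Nat.Prime.dvd_mul hp).1 h1 with h1 | h
    · rcases (Nat.Prime.dvd_mul hp).1 h1 with h1 | h
      · rcases (Nat.Prime.dvd_mul hp).1 h1 with h1 | h
        · rcases (Nat.Prime.dvd_mul hp).1 h1 with h1 | h
          · rcases (Nat.Prime.dvd_mul hp).1 h1 with h1 | h
            · rcases (Nat.Prime.dvd_mul hp).1 h1 with h1 | h
              · rcases (Nat.Prime.dvd_mul hp).1 h1 with h1 | h
                · rcases (Nat.Prime.dvd_mul hp).1 h1 with h1 | h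
                  · have := two (by norm_num) _ h1
                    omega
                  · have := two (by norm_num) _ h
                    omega
                · have := one (by norm_num) h
                  omega
              · have := one (by norm_num) h
                omega
            · have := two (by norm_num) _ h
              omega
          · have := one (by norm_num) h
            omega
        · have := one (by norm_num) h
          omega
      · have := one (by norm_num) h
        omega
    · have := one (by norm_num) h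
      omega
  · have := one (by norm_num) h
    omega

/-- **SOLV for the degrees of `J₄`.** -/
theorem solv_J4 : H704.S8.Solv.{u} (charDegrees Spor.J4) := by
  refine H786.S8.solv_of_list chk_CS (fun d hd => ?_) (fun w hw => ?_) (fun p hp d hd h => prime_mem hp hd h) mem1
    (by norm_num)
  · rw [CS_fst]
    exact deg_J4 ⟨MulEquiv.refl _⟩ hd
  · simp only [List.mem_cons, List.not_mem_nil, or_false] at hw
    rcases hw with rfl | rfl
    · exact mem1
    · exact mem2

/-- **S4908, `J₄`, SOLV.** -/
theorem solv {X : Type v} [Group X] (h : Spor.IsoJ4 X) (D : Set ℕ) (hD : H704.S8.Deg 1 X D) : H704.S8.Solv.{u} D := by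
  obtain ⟨e⟩ := h
  rcases hD with rfl | ⟨h1, -⟩
  · rw [H424.DegTools.charDegrees_congr e]
    exact solv_J4
  · omega

end Cfsg.Agent.H265.S8
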