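import Cfsg.Agent.H735.J4C.Chk

/-!
# Linear certificates for the number of the characters whose degree has a given property (helper265, after helper735)
-/

set_option autoImplicit false

namespace Cfsg.Agent.H265.S8

open Cfsg.Agent.H653.Sieve (allDiv allDiv_spec facProd)
open Cfsg.Agent.H735.Lin

/-- The check for one degree. -/
def chkDQ (PF : List (ℕ × List (ℕ × ℤ))) (T7 T5 : List (List (ℕ × ℤ))) (C : Coef) (c : ℤ) (Q : ℕ → Bool) (d : ℕ) : Bool :=
  allH d PF fun ws => allAB d fun a b => (T7.getD (d % 7) []).all fun l => (T5.getD (d % 5) []).all fun m =>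
    decide (C.ev d ((d : ℤ) :: (ws ++ [a, b])) ws l m ≤ (bif Q d then c else 0))

/-- The check for all degrees. -/
def chkQ (N : ℕ) (PF : List (ℕ × List (ℕ × ℤ))) (T7 T5 : List (List (ℕ × ℤ))) (C : Coef) (c : ℤ) (Q : ℕ → Bool)
    (L : List (ℕ × ℕ)) : Bool :=
  allDiv N (fun d => bif Nat.ble N (d * d) then true else chkDQ PF T7 T5 C c Q d) L 1

variable {X : Type*} [Fintype X]

/-- **The certificate.** `d` : the degrees, `Ws` : the prime columns, `a`, `b`, `s`, `t` : the other columns. -/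
theorem tot_le_of_chkQ (C : Coef) (c : ℤ) (Q : ℕ → Bool) {N : ℕ} {L : List (ℕ × ℕ)}
    (hL : (L.all fun pa => Nat.Prime pa.1) = true)
    (hLN : facProd L = N) {PF : List (ℕ × List (ℕ × ℤ))} {T7 T5 : List (List (ℕ × ℤ))}
    {d : X → ℕ} {Ws : List (X → ℤ)} {a b : X → ℤ} {s : Fin 7 → X → ℤ} {t : Fin 9 → X → ℤ}
    (hd : ∀ x, d x ∣ N) (hd2 : ∀ x, d x * d x < N)
    (hW : ∀ x, List.Forall₂ (fun (p : ℕ × List (ℕ × ℤ)) (w : ℤ) => (d x % p.1, w) ∈ p.2) PF (val Ws x))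
    (hn : ∀ x, 242 * a x ^ 2 + 31944 * b x ^ 2 ≤ 7730448) (hab : ∀ x, (11 : ℤ) ∣ b x - a x)
    (hdab : ∀ x, (1331 : ℤ) ∣ d x - (11 * b x - 10 * a x)) (hda : ∀ x, (d x : ℤ) ∣ 2716490453483520 * a x)
    (hdb : ∀ x, (d x : ℤ) ∣ 358576739859824640 * b x)
    (hs : ∀ x, ∃ l ∈ T7.getD (d x % 7) [], l.1 < 7 ∧ Lab (fun i => s i x) l)
    (ht : ∀ x, ∃ l ∈ T5.getD (d x % 5) [], l.1 < 9 ∧ Lab (fun i => t i x) l)
    {T : ℤ} (hT : ∑ x, evx C d ((fun x => (d x : ℤ)) :: (Ws ++ [a, b])) Ws s t x = T)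
    (hc : chkQ N PF T7 T5 C c Q L = true) :
    T ≤ c * (Finset.univ.filter fun x => Q (d x) = true).card := by
  refine tot_le hT fun x => ?_
  have hpr : ∀ pa ∈ L, pa.1.Prime := by
    intro pa hpa
    have := List.all_eq_true.1 hL pa hpa
    simpa using this
  have h1 := allDiv_spec hpr hc (d x) (by rw [hLN]; exact hd x) (by rw [one_mul]; exact hd2 x)
  have h2 : Nat.ble N (d x * d x) = false := by
    rw [Bool.eq_false_iff]
    intro h5
    exact absurd (Nat.le_of_ble_eq_true h5) (by have := hd2 x; omega)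
  rw [one_mul, h2, cond_false, chkDQ] at h1
  have h3 := allAB_spec (allH_spec h1 (hW x)) (hn x) (hab x) (hdab x) (hda x) (hdb x)
  obtain ⟨l, hl, hl7, hls⟩ := hs x
  obtain ⟨m, hm, hm9, hmt⟩ := ht x
  rw [List.all_eq_true] at h3
  have h4 := h3 l hl
  rw [List.all_eq_true] at h4
  have h5 := h4 m hm
  rw [decide_eq_true_eq] at h5
  rw [evx_eq C hls hl7 hmt hm9]
  have e1 : val ((fun x => (d x : ℤ)) :: (Ws ++ [a, b])) x = (d x : ℤ) :: (val Ws x ++ [a x, b x]) := by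
    simp [val]
  rw [e1]
  refine h5.trans (le_of_eq ?_)
  by_cases h6 : Q (d x) = true
  · rw [if_pos h6, h6, cond_true]
  · rw [if_neg h6]
    have h7 : Q (d x) = false := by rwa [Bool.not_eq_true] at h6
    rw [h7, cond_false]

end Cfsg.Agent.H265.S8
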