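import Cfsg.Agent.H265.S8.JGen
import Cfsg.Agent.H735.J4C.Fin8
import Cfsg.Agent.H424.DegTools

/-!
# `J₄`: every degree is one of the 42 (helper265, for S4908)

`deg_J4` : every degree of a group isomorphic to `J₄` is in the list `TD`.
-/

set_option autoImplicit false
set_option maxRecDepth 100000

open Cfsg Subgroup

namespace Cfsg.Agent.H265.S8

open Cfsg.Agent.H265.J4LP Cfsg.Agent.H735.J4C Cfsg.Agent.H653.Sieve

/-- The value of the certificate. -/
def totC (C : H735.Lin.Coef) : ℤ :=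
  C.tot 62 1 [86775571046077562880, 129, 111, 93, 29, 23, 31944, 242] [3, 3, 3, 0, 0]
      (fun _ : Fin 7 => 14) (fun _ => 2) (fun j : Fin 9 => if j.val < 7 then 5 else 10) ct5
      (fun a b => (![1, 1, -1, -1, 0, 0, 1] : Fin 7 → ℤ) a * (![2, -1, -1, -2, 0, 2, 0, 0, 0] : Fin 9 → ℤ) b)

theorem tot_ex : -Sx < totC ex := by decide +kernel

attribute [local instance] H877.IMJ4.finJ4

theorem deg_model [Fintype (IrrCharacter Spor.J4)] (χ : IrrCharacter Spor.J4) : deg χ ∈ TD := by
  classical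
  have hsim : IsSimpleGroup Spor.J4 := H877.IMJ4.simple
  obtain ⟨s, h7⟩ := H671.J4.cols7 Sv.seven hN
  obtain ⟨th, I, A⟩ := Fv.irrH
  obtain ⟨t, h5⟩ := H618.J4.cols5 Fv.five I A hN
  have hst := Fv.cross_J4 I h7 h5
  obtain ⟨a, b, h11⟩ := H34.TI.cols11 El.eleven hN
  have h := tot_le_gen H877.IMJ4.nonab hN H877.IMJ4.card_classes cents El.eleven.ord_z El.eleven.ord_x h11
    (ord7 Sv.seven) h7 (ord5 Fv.five) h5 hst chk_ex (T := totC ex) (fun _ _ => rfl)
  have h1 := tot_ex
  have hS : (0 : ℤ) < Sx := by decide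
  have h2 : (Finset.univ.filter fun χ : IrrCharacter Spor.J4 => Qx (deg χ) = true).card = 0 := by
    by_contra hne
    have h3 : (1 : ℤ) ≤ ((Finset.univ.filter fun χ : IrrCharacter Spor.J4 => Qx (deg χ) = true).card : ℤ) := by
      have := Nat.one_le_iff_ne_zero.2 hne
      exact_mod_cast this
    nlinarith
  rw [Finset.card_eq_zero] at h2
  have h4 : ¬ Qx (deg χ) = true := by
    intro h5
    have : χ ∈ (Finset.univ.filter fun χ : IrrCharacter Spor.J4 => Qx (deg χ) = true) := by
      rw [Finset.mem_filter]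
      exact ⟨Finset.mem_univ _, h5⟩
    rw [h2] at this
    exact absurd this (Finset.notMem_empty _)
  unfold Qx at h4
  rw [Bool.not_eq_true, Bool.not_eq_false', List.any_eq_true] at h4
  obtain ⟨e, he, h5⟩ := h4
  rw [Nat.eq_of_beq_eq_true h5]
  exact he

universe v

/-- **Every degree of `J₄` is in the list.** -/
theorem deg_J4 {X : Type v} [Group X] (h : Spor.IsoJ4 X) {d : ℕ} (hd : d ∈ charDegrees X) : d ∈ TD := by
  obtain ⟨e⟩ := h
  rw [H424.DegTools.charDegrees_congr e] at hd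
  have : Finite (IrrCharacter Spor.J4) := Characters.Core.finite_irr
  have := Fintype.ofFinite (IrrCharacter Spor.J4)
  obtain ⟨χ, rfl⟩ := hd
  exact deg_model χ

/-- The small degrees. -/
theorem small_J4 {X : Type v} [Group X] (h : Spor.IsoJ4 X) {d : ℕ} (hd : d ∈ charDegrees X) (hs : d < 299367) :
    d = 1 ∨ d = 1333 := by
  have h1 := deg_J4 h hd
  have h2 : ∀ e ∈ TD, e < 299367 → e = 1 ∨ e = 1333 := by decide
  exact h2 d h1 hs

end Cfsg.Agent.H265.S8
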