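import Cfsg.Agent.H265.S8.JData
import Cfsg.Agent.H735.J4C.Main

/-!
# The degrees of `J₄` and linear certificates (helper265, for S4908; after helper735)

`tot_le_gen` : the number of the characters whose degree has the property `Q`.
-/

set_option autoImplicit false
set_option linter.unusedSectionVars false

open Cfsg Subgroup
open scoped ComplexConjugate

namespace Cfsg.Agent.H265.S8

open Cfsg.Agent.Characters.Core Cfsg.Agent.H653.Sieve Cfsg.Agent.H735.Lin Cfsg.Agent.H735.J4C

universe u

variable {G : Type u} [Group G] [Finite G] [Fintype (IrrCharacter G)]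

/-- **A certificate and the degrees.** -/
theorem tot_le_gen [IsSimpleGroup G] (hG : ¬ IsMulCommutative G) (hN : Nat.card G = N)
    (hk : Nat.card (ConjClasses G) = 62)
    (hc : ∀ p ∈ [43, 37, 31, 29, 23], ∃ x : G, orderOf x = p ∧ Nat.card (centralizer ({x} : Set G)) = p)
    {z x : G} (hz : orderOf z = 11) (hx : orderOf x = 11) {a b : IrrCharacter G → ℤ} (h11 : H34.TI.Cols11 z x a b)
    {y : G} {psi : Equiv.Perm (Fin 5) →* G} (hy : ∀ p, 7 ∣ orderOf (y * psi p) ∧ 7 ∣ orderOf (y⁻¹ * psi p))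
    {s : Fin 7 → IrrCharacter G → ℤ} (h7 : H34.TI.Cols7 y psi s)
    {y' : G} {H : Subgroup G} {th : Fin 11 → IrrCharacter H} (hy' : ∀ p ∈ H, 5 ∣ orderOf (y' * p))
    {t : Fin 9 → IrrCharacter G → ℤ} (h5 : H34.TI.Cols5 y' H th t) (hst : H34.TI.Cross s t)
    {C : Coef} {c : ℤ} {Q : ℕ → Bool} (hck : chkQ N PF T7 T5 C c Q L = true) {T : ℤ}
    (hTT : ∀ c c' : ℤ, C.tot 62 1 [86775571046077562880, 129, 111, 93, 29, 23, 31944, 242] [3, 3, 3, c, c']
      (fun _ : Fin 7 => 14) (fun _ => 2) (fun j : Fin 9 => if j.val < 7 then 5 else 10) ct5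
      (fun a b => (![1, 1, -1, -1, 0, 0, 1] : Fin 7 → ℤ) a * (![2, -1, -1, -2, 0, 2, 0, 0, 0] : Fin 9 → ℤ) b) = T) :
    T ≤ c * (Finset.univ.filter fun χ : IrrCharacter G => Q (deg χ) = true).card := by
  classical
  have := Fintype.ofFinite G
  obtain ⟨W0, m0, q0, c0, r0⟩ := prime_col hG (by norm_num) hN (hc 43 (by simp)) 14 3
    [(0, .ofNat 0), (1, .ofNat 3), (14, .negSucc 0), (29, .ofNat 1), (42, .negSucc 2)] 3 true (by decide +kernel)
  obtain ⟨W1, m1, q1, c1, r1⟩ := prime_col hG (by norm_num) hN (hc 37 (by simp)) 12 3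
    [(0, .ofNat 0), (1, .ofNat 3), (12, .negSucc 0), (25, .ofNat 1), (36, .negSucc 2)] 3 true (by decide +kernel)
  obtain ⟨W2, m2, q2, c2, r2⟩ := prime_col hG (by norm_num) hN (hc 31 (by simp)) 10 3
    [(0, .ofNat 0), (1, .ofNat 3), (10, .negSucc 0), (21, .ofNat 1), (30, .negSucc 2)] 3 true (by decide +kernel)
  obtain ⟨W3, m3, q3, -, r3⟩ := prime_col hG (by norm_num) hN (hc 29 (by simp)) 28 1
    [(0, .ofNat 0), (1, .ofNat 1), (28, .negSucc 0)] 0 false (by decide +kernel)
  obtain ⟨W4, m4, q4, -, r4⟩ := prime_col hG (by norm_num) hN (hc 23 (by simp)) 22 1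
    [(0, .ofNat 0), (1, .ofNat 1), (22, .negSucc 0)] 0 false (by decide +kernel)
  have md := deg_mem_Sp (G := G)
  have ma : (fun χ => (a χ : ℂ)) ∈ Sp G (fun n => n = 11) := by
    rw [funext h11.a_eq]
    exact mem_Sp z hz
  have mb : (fun χ => (b χ : ℂ)) ∈ Sp G (fun n => n = 11) := by
    rw [funext h11.b_eq]
    exact mem_Sp x hx
  have hA0 : Orth [(fun χ => (deg χ : ℤ)), W0, W1, W2, W3, W4, a, b]
      [86775571046077562880, 129, 111, 93, 29, 23, 31944, 242] := by
    refine .cons (by rw [sumsq, hN]; rfl) ?_ (.cons q0 ?_ (.cons q1 ?_ (.cons q2 ?_ (.cons q3 ?_ (.cons q4 ?_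
      (.cons h11.aa ?_ (.cons h11.bb ?_ .nil)))))))
    · intro W hW
      simp only [List.mem_cons, List.not_mem_nil, or_false] at hW
      rcases hW with rfl | rfl | rfl | rfl | rfl | rfl | rfl
      · exact orth_eq (by norm_num) md m0
      · exact orth_eq (by norm_num) md m1
      · exact orth_eq (by norm_num) md m2
      · exact orth_eq (by norm_num) md m3
      · exact orth_eq (by norm_num) md m4
      · exact orth_eq (by norm_num) md ma
      · exact orth_eq (by norm_num) md mb
    · intro W hW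
      simp only [List.mem_cons, List.not_mem_nil, or_false] at hW
      rcases hW with rfl | rfl | rfl | rfl | rfl | rfl
      · exact orth_eq (by norm_num) m0 m1
      · exact orth_eq (by norm_num) m0 m2
      · exact orth_eq (by norm_num) m0 m3
      · exact orth_eq (by norm_num) m0 m4
      · exact orth_eq (by norm_num) m0 ma
      · exact orth_eq (by norm_num) m0 mb
    · intro W hW
      simp only [List.mem_cons, List.not_mem_nil, or_false] at hW
      rcases hW with rfl | rfl | rfl | rfl | rfl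
      · exact orth_eq (by norm_num) m1 m2
      · exact orth_eq (by norm_num) m1 m3
      · exact orth_eq (by norm_num) m1 m4
      · exact orth_eq (by norm_num) m1 ma
      · exact orth_eq (by norm_num) m1 mb
    · intro W hW
      simp only [List.mem_cons, List.not_mem_nil, or_false] at hW
      rcases hW with rfl | rfl | rfl | rfl
      · exact orth_eq (by norm_num) m2 m3
      · exact orth_eq (by norm_num) m2 m4
      · exact orth_eq (by norm_num) m2 ma
      · exact orth_eq (by norm_num) m2 mb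
    · intro W hW
      simp only [List.mem_cons, List.not_mem_nil, or_false] at hW
      rcases hW with rfl | rfl | rfl
      · exact orth_eq (by norm_num) m3 m4
      · exact orth_eq (by norm_num) m3 ma
      · exact orth_eq (by norm_num) m3 mb
    · intro W hW
      simp only [List.mem_cons, List.not_mem_nil, or_false] at hW
      rcases hW with rfl | rfl
      · exact orth_eq (by norm_num) m4 ma
      · exact orth_eq (by norm_num) m4 mb
    · intro W hW
      simp only [List.mem_cons, List.not_mem_nil, or_false] at hW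
      rw [hW]
      exact h11.ab
    · intro W hW
      simp at hW
  have hA : Orth ((fun χ => (deg χ : ℤ)) :: ([W0, W1, W2, W3, W4] ++ [a, b]))
      [86775571046077562880, 129, 111, 93, 29, 23, 31944, 242] := hA0
  have hdA : ∀ (q : ℕ), (∀ p ∈ [1, 43, 37, 31, 29, 23, 11], ¬ q ∣ p) → ∀ {U : IrrCharacter G → ℤ},
      (fun χ => (U χ : ℂ)) ∈ Sp G (fun n => q ∣ n) →
      ∀ W ∈ (fun χ => (deg χ : ℤ)) :: ([W0, W1, W2, W3, W4] ++ [a, b]), ∑ χ, U χ * W χ = 0 := by
    intro q hq U hU W hW
    simp only [List.cons_append, List.nil_append, List.mem_cons, List.not_mem_nil, or_false] at hW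
    rcases hW with rfl | rfl | rfl | rfl | rfl | rfl | rfl | rfl
    · exact orth_dvd (hq 1 (by simp)) hU md
    · exact orth_dvd (hq 43 (by simp)) hU m0
    · exact orth_dvd (hq 37 (by simp)) hU m1
    · exact orth_dvd (hq 31 (by simp)) hU m2
    · exact orth_dvd (hq 29 (by simp)) hU m3
    · exact orth_dvd (hq 23 (by simp)) hU m4
    · exact orth_dvd (hq 11 (by simp)) hU ma
    · exact orth_dvd (hq 11 (by simp)) hU mb
  have hnp : ¬ (Nat.card G).Prime := by
    rw [hN, N]
    norm_num
  have hone : ∑ χ : IrrCharacter G, (bif Nat.beq (deg χ) 1 then (1 : ℤ) else 0) = 1 := by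
    obtain ⟨χ₁, hχ₁⟩ : ∃ χ : IrrCharacter G, (χ : G → ℂ) = 1 := ⟨⟨1, isIrr_one⟩, rfl⟩
    have hd1 : deg χ₁ = 1 := by
      unfold deg charDegree
      rw [hχ₁]
      simp
    rw [Finset.sum_eq_single χ₁]
    · rw [hd1]
      rfl
    · intro χ _ hχ
      have h1 : Nat.beq (deg χ) 1 = false := by
        rw [Bool.eq_false_iff]
        intro h2
        exact hχ (Subtype.ext ((one_of_deg hnp χ (Nat.eq_of_beq_eq_true h2)).trans hχ₁.symm))
      rw [h1]
      rfl
    · intro h
      exact absurd (Finset.mem_univ _) h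
  have hcard : (Fintype.card (IrrCharacter G) : ℤ) = 62 := by
    rw [← Nat.card_eq_fintype_card, card_irr, hk]
    rfl
  have hd : ∀ χ : IrrCharacter G, deg χ ∣ N := by
    intro χ
    rw [← hN]
    exact Blocks.Knorr.charDegree_dvd χ.2
  have hd2 : ∀ χ : IrrCharacter G, deg χ * deg χ < N := by
    intro χ
    obtain ⟨χ₁, hχ₁⟩ : ∃ χ : IrrCharacter G, (χ : G → ℂ) = 1 := ⟨⟨1, isIrr_one⟩, rfl⟩
    have hd1 : deg χ₁ = 1 := by
      unfold deg charDegree
      rw [hχ₁]
      simp
    by_cases hne : χ = χ₁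
    · rw [hne, hd1, N]
      norm_num
    · have hsq := SmallSimple.DegreeData.sum_sq (G := G)
      have h4 : ∑ χ' ∈ ({χ, χ₁} : Finset (IrrCharacter G)), charDegree (χ' : G → ℂ) ^ 2 ≤
          ∑ χ' : IrrCharacter G, charDegree (χ' : G → ℂ) ^ 2 := Finset.sum_le_sum_of_subset (Finset.subset_univ _)
      rw [Finset.sum_pair hne, hsq, hN] at h4
      have e1 : charDegree (χ : G → ℂ) = deg χ := rfl
      have e2 : charDegree (χ₁ : G → ℂ) = deg χ₁ := rfl
      rw [e1, e2, hd1, pow_two] at h4
      omega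
  have hT : ∀ C : Coef, ∃ c c' : ℤ, ∑ χ, evx C deg ((fun χ => (deg χ : ℤ)) :: ([W0, W1, W2, W3, W4] ++ [a, b]))
      [W0, W1, W2, W3, W4] s t χ = C.tot 62 1 [86775571046077562880, 129, 111, 93, 29, 23, 31944, 242] [3, 3, 3, c, c']
        (fun _ => 14) (fun _ => 2) (fun j => if j.val < 7 then 5 else 10) ct5
        (fun a b => (![1, 1, -1, -1, 0, 0, 1] : Fin 7 → ℤ) a * (![2, -1, -1, -2, 0, 2, 0, 0, 0] : Fin 9 → ℤ) b) := by
    intro C
    refine ⟨_, _, sum_evx C hcard hone hA (.cons (c0 rfl) (.cons (c1 rfl) (.cons (c2 rfl) (.cons rfl (.cons rfl .nil)))))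
      (fun i => hdA 7 (by decide) (mem7 h7 hy i)) (fun j => hdA 5 (by decide) (mem5 h5 hy' j))
      (fun i => by rw [h7.gram, if_pos rfl]) (fun j => by rw [h5.gram, if_pos rfl]) (fun i => ?_) (fun j => ?_) hst⟩
    · have := cnt_eq (h7.cnt i)
      exact_mod_cast this
    · unfold ct5
      split
      · rename_i hj
        refine cnt5_lt (fun χ => ?_) (by rw [h5.gram, if_pos rfl, if_pos hj])
        rcases h5.type χ with ⟨-, h0⟩ | ⟨b', e, he, h0, h⟩
        · exact .inl (h0 j)
        · by_cases hb : j = b'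
          · subst hb
            rcases h with ⟨-, h, -⟩ | ⟨h, -⟩ | ⟨h, -⟩
            · right
              rw [h]
              exact he
            · omega
            · omega
          · exact .inl (h0 j hb)
      · rename_i hj
        have := cnt_eq (h5.cnt j (by omega))
        exact_mod_cast this
  obtain ⟨u, v, h1⟩ := hT C
  rw [hTT] at h1
  refine tot_le_of_chkQ C c Q (L := L) (by decide +kernel) (by decide +kernel) hd hd2 (fun χ => ?_) h11.norm h11.cong
    (fun χ => h11.cong' χ) (fun χ => h11.dvd_a χ) (fun χ => h11.dvd_b χ) (fun χ => type7 (h7.type χ))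
    (fun χ => type5 (h5.type χ)) h1 hck
  exact .cons (r0 χ) (.cons (r1 χ) (.cons (r2 χ) (.cons (r3 χ) (.cons (r4 χ) .nil))))

end Cfsg.Agent.H265.S8
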